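import Cfsg.Agent.Lib.PMinimal.Basic
import Cfsg.Agent.Lib.PReduced.Tools

/-!
An isolated `p`-minimal subgroup `P` over a Sylow subgroup `S`, `Y` the normal closure of `O^p(P)`.

* `Setting`, `Setting.le_or_le`: a subgroup over `S` contains `P` or lies in `L`
* `Setting.sup_eq_top`, `Setting.isolated_in`: `G = Y L`, and `P` is isolated in `Y S`
* `Setting.image_le_or`, `Setting.image_le_of_product`: the same modulo `O_p(G)`
-/

set_option autoImplicit false

namespace Cfsg.Agent.IsolatedPMinimal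

open Subgroup

variable {G : Type*} [Group G]

/-- `O^p(P)` inside the ambient group. -/
abbrev resIn (p : ℕ) (P : Subgroup G) : Subgroup G := (Cfsg.pResidual p ↥P).map P.subtype

/-- `O_p(P)` inside the ambient group. -/
abbrev coreIn (p : ℕ) (P : Subgroup G) : Subgroup G := (Cfsg.pCore p ↥P).map P.subtype

/-- `P` is an isolated `p`-minimal subgroup over `S`, with `L` and `Y` as in the definition. -/
structure Setting (p : ℕ) (S : Sylow p G) (P L Y : Subgroup G) : Prop where
  sylow_le : (S : Subgroup G) ≤ P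
  pmin : Cfsg.IsPMinimal p ↥P
  eq_L : L = normalizer ((S : Subgroup G) : Set G) ⊔
    ⨆ P' : {P' : Subgroup G // (S : Subgroup G) ≤ P' ∧ Cfsg.IsPMinimal p ↥P' ∧ P' ≠ P}, (P' : Subgroup G)
  isolated : ¬ coreIn p L ≤ coreIn p P
  eq_Y : Y = normalClosure ((resIn p P : Subgroup G) : Set G)

variable [Finite G] {p : ℕ} [Fact p.Prime]

/-- A subgroup over a Sylow subgroup is generated by its part of the normalizer and `p`-minimal subgroups. -/
theorem le_of_generators (S : Sylow p G) (T : Subgroup G) : ∀ X : Subgroup G, (S : Subgroup G) ≤ X →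
    normalizer ((S : Subgroup G) : Set G) ⊓ X ≤ T →
    (∀ P' : Subgroup G, (S : Subgroup G) ≤ P' → P' ≤ X → Cfsg.IsPMinimal p ↥P' → P' ≤ T) → X ≤ T := by
  intro X
  induction X using WellFoundedLT.induction with
  | _ X ih =>
  intro hSX hN hP
  set S' : Sylow p ↥X := S.subtype hSX with hS'
  have hco : (S' : Subgroup ↥X) = (S : Subgroup G).subgroupOf X := rfl
  by_cases hn : (S' : Subgroup ↥X).Normal
  · rw [hco] at hn
    refine le_trans (le_inf ?_ le_rfl) hN
    exact (normal_subgroupOf_iff_le_normalizer hSX).1 hn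
  obtain h | ⟨M, hM, hSM⟩ := eq_top_or_exists_le_coatom (S' : Subgroup ↥X)
  · exact absurd (h ▸ inferInstance) hn
  by_cases hu : ∀ M' : Subgroup ↥X, IsCoatom M' → (S' : Subgroup ↥X) ≤ M' → M' = M
  · refine hP X hSX le_rfl (PMinimal.isPMinimal_of_sylow S' hn M hM hSM fun Z hZ hZt => ?_)
    obtain h | ⟨M', hM', hZM⟩ := eq_top_or_exists_le_coatom Z
    · exact absurd h hZt
    · exact hu M' hM' (hZ.trans hZM) ▸ hZM
  push Not at hu
  obtain ⟨M', hM', hSM', hne⟩ := hu
  have hsub : ∀ K : Subgroup ↥X, IsCoatom K → (S' : Subgroup ↥X) ≤ K → K.map X.subtype ≤ T := by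
    intro K hK hSK
    have hlt : K.map X.subtype < X := lt_of_le_of_ne (map_subtype_le K) fun h => hK.1 (by
      rw [← map_subtype_inj, h, ← MonoidHom.range_eq_map, range_subtype])
    have hSK' : (S : Subgroup G) ≤ K.map X.subtype := by
      rw [hco] at hSK
      simpa [map_subgroupOf_eq_of_le hSX] using map_mono (f := X.subtype) hSK
    exact ih _ hlt hSK' ((inf_le_inf_left _ hlt.le).trans hN) fun P' h1 h2 h3 => hP P' h1 (h2.trans hlt.le) h3
  have htop : M ⊔ M' = ⊤ := hM.2 _ (lt_of_le_of_ne le_sup_left fun h => hne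
    (((hM'.le_iff).1 (le_sup_right.trans h.ge)).resolve_left hM.1).symm)
  have hX : X = M.map X.subtype ⊔ M'.map X.subtype := by
    rw [← Subgroup.map_sup, htop, ← MonoidHom.range_eq_map, range_subtype]
  rw [hX]
  exact sup_le (hsub M hM hSM) (hsub M' hM' hSM')

/-- An element of order prime to `p` in `N H` lies in `N`, for a `p`-group `H` normalising `N`. -/
theorem mem_of_coprime_mem_sup {N H : Subgroup G} (hH : IsPGroup p ↥H) (hN : H ≤ normalizer (N : Set G))
    {x : G} (hx : x ∈ N ⊔ H) (hc : (orderOf x).Coprime p) : x ∈ N := by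
  have hle : N ⊔ H ≤ normalizer (N : Set G) := sup_le le_normalizer hN
  set T := N ⊔ H with hT
  have hn : (N.subgroupOf T).Normal := normal_subgroupOf_of_le_normalizer hle
  have htop : H.subgroupOf T ⊔ N.subgroupOf T = ⊤ := by
    rw [← subgroupOf_sup le_sup_right le_sup_left]
    exact subgroupOf_eq_top.2 (sup_comm N H).le
  have hq : IsPGroup p (↥T ⧸ N.subgroupOf T) :=
    PIrred.isPGroup_quotient_of_sup (hH.comap_subtype) htop
  obtain ⟨k, hk⟩ := hq (QuotientGroup.mk (⟨x, hx⟩ : ↥T))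
  have h1 : orderOf (QuotientGroup.mk (⟨x, hx⟩ : ↥T) : ↥T ⧸ N.subgroupOf T) ∣ p ^ k :=
    orderOf_dvd_of_pow_eq_one hk
  have h2 : orderOf (QuotientGroup.mk (⟨x, hx⟩ : ↥T) : ↥T ⧸ N.subgroupOf T) ∣ orderOf x :=
    (orderOf_map_dvd (QuotientGroup.mk' _) (⟨x, hx⟩ : ↥T)).trans (by rw [Subgroup.orderOf_mk])
  have h3 := Nat.eq_one_of_dvd_coprimes (hc.pow_right k) h2 h1
  rw [orderOf_eq_one_iff, QuotientGroup.eq_one_iff] at h3
  exact h3

variable {S : Sylow p G} {P L Y : Subgroup G}

namespace Setting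

variable (h : Setting p S P L Y)
include h

theorem normalizer_le : normalizer ((S : Subgroup G) : Set G) ≤ L := h.eq_L.ge.trans' le_sup_left

theorem sylow_le_L : (S : Subgroup G) ≤ L := le_normalizer.trans h.normalizer_le

theorem other_le {P' : Subgroup G} (h1 : (S : Subgroup G) ≤ P') (h2 : Cfsg.IsPMinimal p ↥P') (h3 : P' ≠ P) :
    P' ≤ L :=
  h.eq_L.ge.trans' (le_sup_of_le_right (le_iSup_of_le ⟨P', h1, h2, h3⟩ le_rfl))

theorem le_or_le {X : Subgroup G} (hX : (S : Subgroup G) ≤ X) : P ≤ X ∨ X ≤ L := by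
  by_cases hP : P ≤ X
  · exact Or.inl hP
  refine Or.inr (le_of_generators S L X hX (inf_le_left.trans h.normalizer_le) fun P' h1 h2 h3 => ?_)
  exact h.other_le h1 h3 fun e => hP (e ▸ h2)

omit [Fact p.Prime] in
theorem gen_le (T : Subgroup G) (hT : ∀ y ∈ Y, (orderOf y).Coprime p → y ∈ T) : Y ≤ T := by
  have hres : resIn p P ≤ Y := h.eq_Y.ge.trans' (le_normalClosure)
  rw [h.eq_Y, normalClosure, closure_le]
  intro z hz
  rw [Group.mem_conjugatesOfSet_iff] at hz
  obtain ⟨y, hy, hyz⟩ := hz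
  obtain ⟨c, rfl⟩ := isConj_iff.1 hyz
  have hle : resIn p P ≤ T.comap (MulAut.conj c).toMonoidHom := by
    rw [resIn, map_le_iff_le_comap, Cfsg.pResidual, closure_le]
    intro w hw
    refine hT (c * (w : G) * c⁻¹) ?_ ?_
    · have hn : Y.Normal := h.eq_Y ▸ normalClosure_normal
      exact hn.conj_mem _ (hres (mem_map_of_mem _ (subset_closure hw))) c
    · show Nat.Coprime (orderOf (MulAut.conj c (w : G))) p
      rw [MulEquiv.orderOf_eq, orderOf_coe]
      exact hw
  exact hle hy

omit [Fact p.Prime] in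
theorem res_le : resIn p P ≤ Y := h.eq_Y.ge.trans' le_normalClosure

omit [Fact p.Prime] in
theorem normal : Y.Normal := h.eq_Y ▸ normalClosure_normal

theorem res_sup_sylow : resIn p P ⊔ (S : Subgroup G) = P := by
  have hP := congrArg (Subgroup.map P.subtype) (PReduced.pResidual_sup_sylow (S.subtype h.sylow_le))
  rw [Subgroup.map_sup, ← MonoidHom.range_eq_map, range_subtype, Sylow.coe_subtype,
    map_subgroupOf_eq_of_le h.sylow_le] at hP
  exact hP

theorem core_le : Cfsg.pCore p G ≤ coreIn p P := by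
  have := PReduced.pCore_normal p G
  have hle : Cfsg.pCore p G ≤ P := (PReduced.pCore_le_sylow S).trans h.sylow_le
  intro x hx
  refine ⟨⟨x, hle hx⟩, PReduced.le_pCore (N := (Cfsg.pCore p G).subgroupOf P) inferInstance ?_ hx, rfl⟩
  exact (PReduced.isPGroup_pCore p).comap_subtype

theorem not_le : ¬ P ≤ L := fun hP => by
  have hLtop : ⊤ ≤ L := le_of_generators S L ⊤ le_top (inf_le_left.trans h.normalizer_le) fun P' h1 _ h3 => by
    by_cases e : P' = P
    · exact e ▸ hP
    · exact h.other_le h1 h3 e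
  have hn : L.Normal := top_le_iff.1 hLtop ▸ inferInstance
  refine h.isolated (le_trans ?_ h.core_le)
  exact PReduced.pCore_map_subtype_le hn.isSubnormal

theorem sup_eq_top : Y ⊔ L = ⊤ := by
  refine top_le_iff.1 (le_of_generators S (Y ⊔ L) ⊤ le_top
    (inf_le_left.trans (h.normalizer_le.trans le_sup_right)) fun P' h1 _ h3 => ?_)
  by_cases e : P' = P
  · rw [e, ← h.res_sup_sylow]
    exact sup_le_sup h.res_le h.sylow_le_L
  · exact (h.other_le h1 h3 e).trans le_sup_right

theorem exists_mul (g : G) : ∃ y ∈ Y, ∃ l ∈ L, g = y * l := by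
  have hn := h.normal
  have hg : g ∈ Y ⊔ L := h.sup_eq_top.ge (mem_top g)
  obtain ⟨y, hy, l, hl, hyl⟩ := mem_sup_of_normal_left.1 hg
  exact ⟨y, hy, l, hl, hyl.symm⟩

theorem res_not_le_core : ¬ resIn p P ≤ Cfsg.pCore p G := fun hle => by
  refine (h.pmin (S.subtype h.sylow_le)).1 ?_
  have hP : P = (S : Subgroup G) := by
    rw [← h.res_sup_sylow, sup_eq_right]
    exact hle.trans (PReduced.pCore_le_sylow S)
  rw [Sylow.coe_subtype, show (S : Subgroup G).subgroupOf P = ⊤ from subgroupOf_eq_top.2 hP.le]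
  infer_instance

theorem coreL_le : coreIn p L ≤ (S : Subgroup G) := by
  have := PReduced.pCore_le_sylow (S.subtype h.sylow_le_L)
  have := map_mono (f := L.subtype) this
  rwa [Sylow.coe_subtype, map_subgroupOf_eq_of_le h.sylow_le_L] at this

omit [Finite G] [Fact p.Prime] in
theorem le_normalizer_coreL : L ≤ normalizer ((coreIn p L : Subgroup G) : Set G) := by
  have := PReduced.pCore_normal p ↥L
  have hle : coreIn p L ≤ L := map_subtype_le _
  refine (normal_subgroupOf_iff_le_normalizer hle).1 ?_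
  rw [coreIn, subgroupOf, comap_map_eq_self_of_injective L.subtype_injective]
  infer_instance

theorem isolated_in :
    ¬ (Cfsg.pCore p ↥((normalizer ((S : Subgroup G) : Set G) ⊓ (Y ⊔ (S : Subgroup G))) ⊔
          ⨆ P' : {P' : Subgroup G // (S : Subgroup G) ≤ P' ∧ P' ≤ Y ⊔ (S : Subgroup G) ∧ Cfsg.IsPMinimal p ↥P' ∧ P' ≠ P}, (P' : Subgroup G))).map
        (Subgroup.subtype _) ≤ coreIn p P := by
  set L₀ := (normalizer ((S : Subgroup G) : Set G) ⊓ (Y ⊔ (S : Subgroup G))) ⊔
          ⨆ P' : {P' : Subgroup G // (S : Subgroup G) ≤ P' ∧ P' ≤ Y ⊔ (S : Subgroup G) ∧ Cfsg.IsPMinimal p ↥P' ∧ P' ≠ P}, (P' : Subgroup G)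
  have hL₀ : L₀ ≤ L := sup_le (inf_le_left.trans h.normalizer_le)
    (iSup_le fun P' => h.other_le P'.2.1 P'.2.2.2.1 P'.2.2.2.2)
  have hS : (S : Subgroup G) ≤ L₀ := le_sup_of_le_left (le_inf le_normalizer le_sup_right)
  refine fun hle => h.isolated (le_trans ?_ hle)
  intro x hx
  have hQ : coreIn p L ≤ L₀ := h.coreL_le.trans hS
  refine ⟨⟨x, hQ hx⟩, PReduced.le_pCore (N := (coreIn p L).subgroupOf L₀)
    ((normal_subgroupOf_iff_le_normalizer hQ).2 (hL₀.trans h.le_normalizer_coreL)) ?_ hx, rfl⟩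
  exact ((PReduced.isPGroup_pCore p).map _).comap_subtype

theorem normalClosure_coreL : Y ≤ normalClosure ((coreIn p L : Subgroup G) : Set G) := by
  set R := normalClosure ((coreIn p L : Subgroup G) : Set G) with hR
  have hQR : coreIn p L ≤ R := le_normalClosure
  rcases h.le_or_le (X := R ⊔ (S : Subgroup G)) le_sup_right with hP | hle
  · rw [h.eq_Y]
    refine normalClosure_le_normal fun z hz => ?_
    have hle' : resIn p P ≤ R := by
      rw [resIn, map_le_iff_le_comap, Cfsg.pResidual, closure_le]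
      intro w hw
      exact mem_of_coprime_mem_sup (N := R) S.2 (le_top.trans (normalizer_eq_top_iff.2 normalClosure_normal).ge)
        (hP w.2) ((orderOf_coe w).symm ▸ hw)
    exact hle' hz
  · exfalso
    refine h.isolated (le_trans ?_ h.core_le)
    refine PReduced.le_pCore_of_isSubnormal ?_ ((PReduced.isPGroup_pCore p).map _)
    exact IsSubnormal.step _ _ hQR normalClosure_normal.isSubnormal
      ((normal_subgroupOf_iff_le_normalizer hQR).2 ((le_sup_left.trans hle).trans h.le_normalizer_coreL))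

/-- If `G = N L` and `O_p(L)` normalises `N`, then `Y ≤ N`. -/
theorem le_of_product {N : Subgroup G} (hN : (S : Subgroup G) ≤ normalizer (N : Set G))
    (hg : ∀ g : G, ∃ n ∈ N, ∃ l ∈ L, g = n * l) : Y ≤ N := by
  have hQ : coreIn p L ≤ normalizer (N : Set G) := h.coreL_le.trans hN
  have hR : normalClosure ((coreIn p L : Subgroup G) : Set G) ≤ N ⊔ coreIn p L := by
    rw [normalClosure, closure_le]
    intro z hz
    rw [Group.mem_conjugatesOfSet_iff] at hz
    obtain ⟨q, hq, hqz⟩ := hz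
    obtain ⟨c, rfl⟩ := isConj_iff.1 hqz
    obtain ⟨n, hn, l, hl, rfl⟩ := hg c
    have hl' : l * q * l⁻¹ ∈ coreIn p L := (mem_normalizer_iff.1 (h.le_normalizer_coreL hl) q).1 hq
    rw [show n * l * q * (n * l)⁻¹ = n * (l * q * l⁻¹) * n⁻¹ by group]
    exact mul_mem (mul_mem (mem_sup_left hn) (mem_sup_right hl')) (inv_mem (mem_sup_left hn))
  exact h.gen_le N fun y hy hc => mem_of_coprime_mem_sup ((PReduced.isPGroup_pCore p).map _) hQ
    (hR (h.normalClosure_coreL hy)) hc

variable [(Cfsg.pCore p G).Normal]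

theorem res_le_of_le_sup {N : Subgroup G} (hN : (S : Subgroup G) ≤ normalizer (N : Set G))
    (hle : P ≤ N ⊔ (S : Subgroup G)) : resIn p P ≤ N := by
  rw [resIn, map_le_iff_le_comap, Cfsg.pResidual, closure_le]
  intro w hw
  exact mem_of_coprime_mem_sup S.2 hN (hle w.2) ((orderOf_coe w).symm ▸ hw)

/-- Modulo `O_p(G)`, a subgroup normalised by `S` contains the image of `O^p(P)` or lies in that of `L`. -/
theorem image_le_or {X : Subgroup (G ⧸ Cfsg.pCore p G)}
    (hX : (S : Subgroup G).map (QuotientGroup.mk' (Cfsg.pCore p G)) ≤ normalizer (X : Set _)) :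
    (resIn p P).map (QuotientGroup.mk' (Cfsg.pCore p G)) ≤ X ∨
      X ≤ L.map (QuotientGroup.mk' (Cfsg.pCore p G)) := by
  set π := QuotientGroup.mk' (Cfsg.pCore p G)
  have hN : (S : Subgroup G) ≤ normalizer ((X.comap π : Subgroup G) : Set G) := fun s hs => by
    rw [mem_normalizer_iff]
    intro x
    have := mem_normalizer_iff.1 (hX (mem_map_of_mem π hs)) (π x)
    simpa [mem_comap, map_mul, map_inv] using this
  rcases h.le_or_le (X := X.comap π ⊔ (S : Subgroup G)) le_sup_right with hP | hle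
  · exact Or.inl (map_le_iff_le_comap.2 (h.res_le_of_le_sup hN hP))
  · refine Or.inr fun x hx => ?_
    obtain ⟨g, rfl⟩ := QuotientGroup.mk'_surjective _ x
    exact mem_map_of_mem π (hle (mem_sup_left hx))

/-- Modulo `O_p(G)`: if the image of `Y` is covered by `X` times the image of `L`, it lies in `X`. -/
theorem image_le_of_product {X : Subgroup (G ⧸ Cfsg.pCore p G)}
    (hX : (S : Subgroup G).map (QuotientGroup.mk' (Cfsg.pCore p G)) ≤ normalizer (X : Set _))
    (hcov : ∀ y ∈ Y.map (QuotientGroup.mk' (Cfsg.pCore p G)),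
      ∃ a ∈ X, ∃ b ∈ L.map (QuotientGroup.mk' (Cfsg.pCore p G)), y = a * b) :
    Y.map (QuotientGroup.mk' (Cfsg.pCore p G)) ≤ X := by
  set π := QuotientGroup.mk' (Cfsg.pCore p G)
  have hN : (S : Subgroup G) ≤ normalizer ((X.comap π : Subgroup G) : Set G) := fun s hs => by
    rw [mem_normalizer_iff]
    intro x
    have := mem_normalizer_iff.1 (hX (mem_map_of_mem π hs)) (π x)
    simpa [mem_comap, map_mul, map_inv] using this
  refine map_le_iff_le_comap.2 (h.le_of_product hN fun g => ?_)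
  obtain ⟨y, hy, l, hl, rfl⟩ := h.exists_mul g
  obtain ⟨a, ha, _, ⟨b, hb, rfl⟩, hab⟩ := hcov _ (mem_map_of_mem π hy)
  refine ⟨y * b⁻¹, ?_, b * l, mul_mem hb hl, by group⟩
  show π (y * b⁻¹) ∈ X
  rw [map_mul, hab, map_inv, mul_inv_cancel_right]
  exact ha

/-- Modulo `O_p(G)` a normal subgroup contains the image of `Y` or centralises it. -/
theorem image_le_or_centralizes {M : Subgroup (G ⧸ Cfsg.pCore p G)} (hM : M.Normal) :
    Y.map (QuotientGroup.mk' (Cfsg.pCore p G)) ≤ M ∨
      M ≤ L.map (QuotientGroup.mk' (Cfsg.pCore p G)) ∧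
        M ≤ centralizer (Y.map (QuotientGroup.mk' (Cfsg.pCore p G)) : Set _) := by
  set π := QuotientGroup.mk' (Cfsg.pCore p G) with hπ
  rcases h.image_le_or (X := M) (le_top.trans (normalizer_eq_top_iff.2 hM).ge) with hP | hle
  · refine Or.inl (map_le_iff_le_comap.2 ?_)
    have : (M.comap π).Normal := hM.comap π
    rw [h.eq_Y]
    exact normalClosure_le_normal (map_le_iff_le_comap.1 hP)
  refine Or.inr ⟨hle, le_centralizer_iff.1 (map_le_iff_le_comap.2 ?_)⟩
  set N := M.comap π
  have hNn : N.Normal := hM.comap π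
  have hNL : N ≤ L := fun x hx => by
    obtain ⟨l, hl, e⟩ := hle hx
    have hO : l⁻¹ * x ∈ Cfsg.pCore p G := QuotientGroup.eq.1 e
    have := mul_mem hl (h.sylow_le_L (PReduced.pCore_le_sylow S hO))
    rwa [mul_inv_cancel_left] at this
  have hNQ : ⁅N, coreIn p L⁆ ≤ Cfsg.pCore p G := by
    have hQL : coreIn p L ≤ L := map_subtype_le _
    have h1 : ⁅N, coreIn p L⁆ ≤ N ⊓ coreIn p L := le_inf (commutator_le_left _ _)
      (le_normalizer_iff_commutator_le_right.1 (hNL.trans h.le_normalizer_coreL))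
    refine h1.trans (PReduced.le_pCore_of_isSubnormal ?_ (((PReduced.isPGroup_pCore p).map _).to_le inf_le_right))
    refine IsSubnormal.step _ _ inf_le_left hNn.isSubnormal ((normal_subgroupOf_iff_le_normalizer inf_le_left).2 ?_)
    exact (le_inf le_normalizer (hNL.trans h.le_normalizer_coreL)).trans inf_normalizer_le_normalizer_inf
  refine h.normalClosure_coreL.trans (normalClosure_le_normal fun q hq => ?_)
  show π q ∈ centralizer (M : Set _)
  intro m hm
  obtain ⟨n, rfl⟩ := QuotientGroup.mk'_surjective _ m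
  have hc : n * q * n⁻¹ * q⁻¹ ∈ Cfsg.pCore p G := hNQ (commutator_mem_commutator hm hq)
  have h1 : π (n * q * n⁻¹ * q⁻¹) = 1 := (QuotientGroup.eq_one_iff _).2 hc
  rw [map_mul, map_mul, map_mul, map_inv, map_inv, mul_inv_eq_one, mul_inv_eq_iff_eq_mul] at h1
  exact h1

theorem image_ne_bot : Y.map (QuotientGroup.mk' (Cfsg.pCore p G)) ≠ ⊥ := fun e => h.res_not_le_core (by
  rw [Subgroup.map_eq_bot_iff, QuotientGroup.ker_mk'] at e
  exact h.res_le.trans e)

theorem image_not_le : ¬ (resIn p P).map (QuotientGroup.mk' (Cfsg.pCore p G)) ≤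
    L.map (QuotientGroup.mk' (Cfsg.pCore p G)) := fun e => by
  rw [map_le_iff_le_comap, comap_map_eq, QuotientGroup.ker_mk'] at e
  refine h.not_le (h.res_sup_sylow.ge.trans (sup_le (e.trans (sup_le le_rfl ?_)) h.sylow_le_L))
  exact (PReduced.pCore_le_sylow S).trans h.sylow_le_L

end Setting

end Cfsg.Agent.IsolatedPMinimal
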