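import Cfsg.Agent.Lib.IsolatedPMinimal.Basic
import Cfsg.Agent.Lib.Coprime.Abelian
import Cfsg.Agent.Lib.Solvable.Maximal
import Cfsg.Agent.Lib.Components.GenFitting
import Cfsg.Agent.Lib.Components.BBalance

/-!
The image `Ȳ` of `Y` modulo `O_p(G)`, for an isolated `p`-minimal subgroup.

* `exists_complement_elementary`: subgroups of elementary abelian groups have complements
* `Setting.coprime_case`: if `p` does not divide `|Ȳ|`, then `Y = O^p(P)` and `Ȳ` is an `r`-group
* `Setting.dichotomy`: `Ȳ` is a class two `r`-group, or semisimple with `S` transitive on the components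
-/

set_option autoImplicit false

namespace Cfsg.Agent.IsolatedPMinimal

open Subgroup

theorem exists_complement_elementary {H : Type*} [Group H] [Finite H] {V U : Subgroup H} (r : ℕ) [Fact r.Prime]
    (hc : ∀ a ∈ V, ∀ b ∈ V, a * b = b * a) (hr : ∀ a ∈ V, a ^ r = 1) (hU : U ≤ V) :
    ∃ W : Subgroup H, W ≤ V ∧ U ⊓ W = ⊥ ∧ U ⊔ W = V := by
  obtain ⟨W, ⟨hWV, hUW⟩, hmax⟩ := (Set.toFinite {W : Subgroup H | W ≤ V ∧ U ⊓ W = ⊥}).exists_maximal
    ⟨⊥, bot_le, inf_bot_eq U⟩
  refine ⟨W, hWV, hUW, le_antisymm (sup_le hU hWV) fun x hx => ?_⟩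
  by_contra hxn
  have hW' : W ⊔ zpowers x ≤ V := sup_le hWV (zpowers_le.2 hx)
  have hn : ∀ {A B : Subgroup H}, A ≤ V → B ≤ V → B ≤ normalizer (A : Set H) := fun hA hB =>
    (fun b hb => hc _ (hB hb) ) |> fun hcb b hb => mem_normalizer_iff.2 fun a => by
      constructor
      · intro ha
        rwa [hcb b hb a (hA ha), mul_inv_cancel_right]
      · intro ha
        have hbV := hB hb
        have haV : a ∈ V := by
          have := mul_mem (mul_mem (inv_mem hbV) (hA ha)) hbV
          group at this; simpa using this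
        rwa [hcb b hb a haV, mul_inv_cancel_right] at ha
  have hinf : U ⊓ (W ⊔ zpowers x) = ⊥ := by
    rw [eq_bot_iff]
    rintro z ⟨hzU, hz⟩
    obtain ⟨w, hw, y, hy, rfl⟩ := (Coprime.mem_sup_iff (hn hWV (zpowers_le.2 hx))).1 hz
    obtain ⟨i, rfl⟩ := mem_zpowers_iff.1 hy
    have hxi : x ^ i ∈ U ⊔ W := by
      rw [show x ^ i = w⁻¹ * (w * x ^ i) by group]
      exact mul_mem (mem_sup_right (inv_mem hw)) (mem_sup_left hzU)
    by_cases hri : (r : ℤ) ∣ i
    · obtain ⟨j, rfl⟩ := hri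
      rw [zpow_mul, zpow_natCast, hr x hx, one_zpow, mul_one] at hzU ⊢
      exact hUW.le ⟨hzU, hw⟩
    · refine absurd ?_ hxn
      obtain ⟨a, b, hab⟩ : ∃ a b : ℤ, a * (r : ℤ) + b * i = 1 := by
        have := ((Nat.prime_iff_prime_int.1 (Fact.out : r.Prime)).coprime_iff_not_dvd).2 hri
        exact this
      rw [show x = (x ^ r) ^ a * (x ^ i) ^ b by
        rw [← zpow_natCast, ← zpow_mul, ← zpow_mul, ← zpow_add, show (r : ℤ) * a + i * b = 1 by linarith, zpow_one],
        hr x hx, one_zpow, one_mul]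
      exact zpow_mem hxi b
  have := hmax ⟨hW', hinf⟩ le_sup_left
  exact hxn (mem_sup_right (this (mem_sup_right (mem_zpowers x))))

variable {G : Type*} [Group G] [Finite G] {p : ℕ} [Fact p.Prime] {S : Sylow p G} {P L Y : Subgroup G}
  [(Cfsg.pCore p G).Normal]

local notation "π" => QuotientGroup.mk' (Cfsg.pCore p G)

namespace Setting

variable (h : Setting p S P L Y)
include h

theorem map_sylow_le_normalizer_res : (S : Subgroup G).map π ≤ normalizer (((resIn p P).map π : Subgroup _) : Set _) := by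
  have hn := PReduced.pResidual_normal p ↥P
  have h1 : P ≤ normalizer ((resIn p P : Subgroup G) : Set G) := by
    refine (normal_subgroupOf_iff_le_normalizer (map_subtype_le _)).1 ?_
    show ((Cfsg.pResidual p ↥P).map P.subtype).comap P.subtype |>.Normal
    rw [comap_map_eq_self_of_injective P.subtype_injective]
    exact hn
  exact (map_mono (h.sylow_le.trans h1)).trans (le_normalizer_map π)

/-- If `p` does not divide `|Ȳ|`. -/
theorem coprime_case (hc : ¬ p ∣ Nat.card ↥(Y.map π)) :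
    Y = resIn p P ∧ ∃ r : ℕ, r.Prime ∧ r ≠ p ∧ IsPGroup r ↥(Y.map π) := by
  set Yb := Y.map π with hYb
  set Sb := (S : Subgroup G).map π with hSb
  set Pb := (resIn p P).map π with hPb
  set Lb := L.map π with hLb
  have hYn : Y.Normal := h.normal
  have hYbn : Yb.Normal := Subgroup.Normal.map inferInstance π (QuotientGroup.mk'_surjective _)
  have hPY : Pb ≤ Yb := map_mono h.res_le
  have hSn : Sb ≤ normalizer (Yb : Set _) := le_top.trans (normalizer_eq_top_iff.2 hYbn).ge
  have hSp : IsPGroup p ↥Sb := S.2.map π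
  have hcop : (Nat.card Sb).Coprime (Nat.card Yb) := by
    obtain ⟨k, hk⟩ := IsPGroup.iff_card.1 hSp
    rw [hk]
    exact ((Fact.out : p.Prime).coprime_iff_not_dvd.2 hc).pow_left k
  have hsolv : Group.IsSolvable Sb := Coprime.isSolvable_of_isPGroup hSp
  obtain ⟨r, hr, hrY⟩ : ∃ r : ℕ, r.Prime ∧ IsPGroup r ↥Yb := by
    by_cases hall : ∀ r : ℕ, r.Prime → ∃ R : Sylow r ↥Yb, (R : Subgroup ↥Yb).map Yb.subtype ≤ Lb
    · exfalso
      refine h.image_not_le (hPY.trans ?_)
      have : Lb.subgroupOf Yb = ⊤ := PMinimal.eq_top_of_forall_sylow _ fun r hr _ => by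
        obtain ⟨R, hR⟩ := hall r hr
        exact ⟨R, map_le_iff_le_comap.1 hR⟩
      exact subgroupOf_eq_top.1 this
    push Not at hall
    obtain ⟨r, hr, hR⟩ := hall
    have := Fact.mk hr
    obtain ⟨R, hRS⟩ := Coprime.exists_invariant_sylow hSn hcop (Or.inl hsolv) r
    refine ⟨r, hr, ?_⟩
    have hPR : Pb ≤ (R : Subgroup ↥Yb).map Yb.subtype := (h.image_le_or hRS).resolve_right (hR R)
    have hP1 : Pb ≠ ⊥ := fun e => h.res_not_le_core (by
      rwa [hPb, Subgroup.map_eq_bot_iff, QuotientGroup.ker_mk'] at e)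
    have hothers : ∀ s : ℕ, s.Prime → s ≠ r → ∃ T : Sylow s ↥Yb, (T : Subgroup ↥Yb) ≤ Lb.subgroupOf Yb := by
      intro s hs hsr
      have := Fact.mk hs
      obtain ⟨T, hTS⟩ := Coprime.exists_invariant_sylow hSn hcop (Or.inl hsolv) s
      refine ⟨T, map_le_iff_le_comap.1 ((h.image_le_or hTS).resolve_left fun hPT => hP1 ?_)⟩
      refine le_bot_iff.1 ((le_inf hPR hPT).trans ?_)
      rw [← map_inf _ _ _ Yb.subtype_injective, disjoint_iff.1
        (IsPGroup.disjoint_of_ne r s hsr.symm _ _ R.2 T.2), Subgroup.map_bot]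
    have hidx : (R : Subgroup ↥Yb).index.Coprime (Lb.subgroupOf Yb).index := by
      refine Nat.coprime_of_dvd fun s hs h1 h2 => ?_
      by_cases hsr : s = r
      · exact R.not_dvd_index (hsr ▸ h1)
      · have := Fact.mk hs
        obtain ⟨T, hT⟩ := hothers s hs hsr
        exact T.not_dvd_index (h2.trans (index_dvd_of_le hT))
    have hle : Yb ≤ (R : Subgroup ↥Yb).map Yb.subtype := by
      refine h.image_le_of_product hRS fun y hy => ?_
      obtain ⟨k, hk, x, hx, e⟩ := Solvable.exists_mul_of_coprime_index hidx (⟨y, hy⟩ : ↥Yb)⁻¹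
      refine ⟨_, mem_map_of_mem _ (inv_mem hx), _, inv_mem hk, ?_⟩
      have e' := congrArg (fun z : ↥Yb => ((z⁻¹ : ↥Yb) : G ⧸ Cfsg.pCore p G)) e
      simpa using e'
    exact (R.2.map _).to_le hle
  have := Fact.mk hr
  have hne : Yb ≠ ⊥ := h.image_ne_bot
  have hrp : r ≠ p := by
    rintro rfl
    obtain ⟨k, hk⟩ := IsPGroup.iff_card.1 hrY
    rcases Nat.eq_zero_or_pos k with rfl | hk0
    · exact hne (eq_bot_of_card_eq Yb (by rw [hk, pow_zero]))
    · exact hc (hk ▸ dvd_pow_self r hk0.ne')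
  refine ⟨le_antisymm ?_ h.res_le, r, hr, hrp, hrY⟩
  suffices hYP : Yb ≤ Pb by
    have hle : Y ≤ P := by
      have h1 := map_le_iff_le_comap.1 hYP
      rw [comap_map_eq, QuotientGroup.ker_mk'] at h1
      exact h1.trans (sup_le (map_subtype_le _) ((PReduced.pCore_le_sylow S).trans h.sylow_le))
    exact h.gen_le _ fun y hy hyc => ⟨⟨y, hle hy⟩, subset_closure
      (show (orderOf (⟨y, hle hy⟩ : ↥P)).Coprime p by rwa [Subgroup.orderOf_mk]), rfl⟩
  -- a maximal normal subgroup with abelian quotient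
  have hnil : Group.IsNilpotent ↥Yb := hrY.isNilpotent
  have hder : ⁅Yb, Yb⁆ ≠ Yb := fun e => by
    have : Group.IsPerfect ↥Yb := Subgroup.isPerfect_iff.2 e
    have : Subsingleton ↥Yb := by
      by_contra hs
      rw [not_subsingleton_iff_nontrivial] at hs
      exact hne (Coprime.eq_bot_of_le_commutator le_rfl hnil (le_of_eq e.symm))
    exact hne (eq_bot_of_subsingleton Yb)
  obtain ⟨K, ⟨hKn, hKY, hKd, hKne⟩, hKmax⟩ := (Set.toFinite {K : Subgroup (G ⧸ Cfsg.pCore p G) |
      K.Normal ∧ K ≤ Yb ∧ ⁅Yb, Yb⁆ ≤ K ∧ K ≠ Yb}).exists_maximal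
    ⟨⁅Yb, Yb⁆, inferInstance, commutator_le_left _ _, le_rfl, hder⟩
  have hKL : K ≤ Lb :=
    ((h.image_le_or_centralizes hKn).resolve_left fun e => hKne (le_antisymm hKY e)).1
  have hcov : Yb ≤ Pb ⊔ K := by
    set ψ := QuotientGroup.mk' K with hψ
    set V := Yb.map ψ
    set U := Pb.map ψ
    have hVc : ∀ a ∈ V, ∀ b ∈ V, a * b = b * a := by
      rintro _ ⟨a, ha, rfl⟩ _ ⟨b, hb, rfl⟩
      have h0 : ψ (a * b * a⁻¹ * b⁻¹) = 1 :=
        (QuotientGroup.eq_one_iff _).2 (hKd (commutator_mem_commutator ha hb))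
      rw [map_mul, map_mul, map_mul, map_inv, map_inv, mul_inv_eq_one, mul_inv_eq_iff_eq_mul] at h0
      exact h0
    have : IsMulCommutative V := PReduced.isMulCommutative_of_forall hVc
    have hVr : ∀ a ∈ V, a ^ r = 1 := by
      let X : Subgroup ((G ⧸ Cfsg.pCore p G) ⧸ K) :=
        { carrier := {a | a ∈ V ∧ a ^ r = 1}
          one_mem' := ⟨one_mem V, one_pow r⟩
          mul_mem' := fun {a b} ha hb => ⟨mul_mem ha.1 hb.1, by
            rw [Commute.mul_pow (hVc a ha.1 b hb.1), ha.2, hb.2, one_mul]⟩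
          inv_mem' := fun {a} ha => ⟨inv_mem ha.1, by rw [inv_pow, ha.2, inv_one]⟩ }
      have hVn : V.Normal := Subgroup.Normal.map hYbn ψ (QuotientGroup.mk'_surjective _)
      have hXn : (X.comap ψ ⊓ Yb).Normal := by
        have : X.Normal := ⟨fun a ha g => ⟨hVn.conj_mem a ha.1 g, by rw [conj_pow, ha.2, mul_one, mul_inv_cancel]⟩⟩
        exact Subgroup.normal_inf_normal _ _
      have hKX : K ≤ X.comap ψ ⊓ Yb := le_inf (fun k hk => by
        show ψ k ∈ X
        rw [show ψ k = 1 from (QuotientGroup.eq_one_iff k).2 hk]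
        exact one_mem X) hKY
      by_cases hX : X.comap ψ ⊓ Yb = Yb
      · rintro _ ⟨a, ha, rfl⟩
        exact ((inf_eq_right.1 hX ha : ψ a ∈ X)).2
      exfalso
      have hXK : X.comap ψ ⊓ Yb ≤ K := hKmax ⟨hXn, inf_le_right, hKd.trans hKX, hX⟩ hKX
      obtain ⟨a, ha, haK⟩ : ∃ a ∈ Yb, a ∉ K := by
        by_contra hcon
        push Not at hcon
        exact hKne (le_antisymm hKY hcon)
      obtain ⟨k, hk⟩ := hrY ⟨a, ha⟩
      have hk' : a ^ (r ^ k) = 1 := by simpa using congrArg Subtype.val hk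
      have key : ∀ k : ℕ, ∀ a ∈ Yb, a ^ (r ^ k) = 1 → a ∈ K := by
        intro k
        induction k with
        | zero => intro a _ e; rw [pow_zero, pow_one] at e; rw [e]; exact one_mem K
        | succ k ih =>
          intro a ha e
          have h1 : a ^ r ∈ K := ih _ (pow_mem ha r) (by rw [← pow_mul, ← pow_succ']; exact e)
          refine hXK ⟨⟨mem_map_of_mem ψ ha, ?_⟩, ha⟩
          rw [← map_pow]
          exact (QuotientGroup.eq_one_iff _).2 h1
      exact haK (key k a ha hk')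
    set A := Sb.map ψ
    have hAV : A ≤ normalizer (V : Set _) := (map_mono hSn).trans (le_normalizer_map ψ)
    have hAU : A ≤ normalizer (U : Set _) := (map_mono h.map_sylow_le_normalizer_res).trans (le_normalizer_map ψ)
    have hcopA : (Nat.card A).Coprime (Nat.card V) :=
      (hcop.coprime_dvd_left (card_map_dvd _ _)).coprime_dvd_right (card_map_dvd _ _)
    obtain ⟨W₀, hW₀, hi₀, hs₀⟩ := exists_complement_elementary r hVc hVr (map_mono hPY : U ≤ V)
    obtain ⟨W, hWV, hWA, hUW, hUWV⟩ :=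
      Coprime.exists_invariant_complement hAV hcopA (map_mono hPY) hAU hW₀ hi₀ hs₀
    set Wt := W.comap ψ ⊓ Yb with hWt
    have hWS : Sb ≤ normalizer (Wt : Set _) := by
      refine (le_inf ?_ hSn).trans inf_normalizer_le_normalizer_inf
      intro s hs
      rw [mem_normalizer_iff]
      intro x
      have := mem_normalizer_iff.1 (hWA (mem_map_of_mem ψ hs)) (ψ x)
      simpa [mem_comap, map_mul, map_inv] using this
    have hWL : Wt ≤ Lb := (h.image_le_or hWS).resolve_left fun e => h.image_not_le (by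
      have hU1 : U ≤ ⊥ := hUW ▸ le_inf le_rfl (map_le_iff_le_comap.2 (e.trans inf_le_left))
      rw [le_bot_iff, Subgroup.map_eq_bot_iff, QuotientGroup.ker_mk'] at hU1
      exact hU1.trans hKL)
    refine h.image_le_of_product ((le_inf h.map_sylow_le_normalizer_res
      (le_top.trans (normalizer_eq_top_iff.2 hKn).ge)).trans (Cores.normalizer_inf_le_normalizer_sup _ _)) fun y hy => ?_
    have hy' : ψ y ∈ U ⊔ W := hUWV.ge (mem_map_of_mem ψ hy)
    obtain ⟨_, ⟨u, hu, rfl⟩, w, hw, e⟩ :=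
      (Coprime.mem_sup_iff (N := U) (H := W) (fun w hw => mem_normalizer_iff.2 fun x => by
        constructor
        · intro hx
          rwa [hVc w (hWV hw) x (map_mono hPY hx), mul_inv_cancel_right]
        · intro hx
          have hxV : x ∈ V := by
            have := mul_mem (mul_mem (inv_mem (hWV hw)) (map_mono hPY hx)) (hWV hw)
            group at this; simpa using this
          rwa [hVc w (hWV hw) x hxV, mul_inv_cancel_right] at hx)).1 hy'
    refine ⟨u, mem_sup_left hu, u⁻¹ * y, hWL ⟨?_, Yb.mul_mem (Yb.inv_mem (hPY hu)) hy⟩, (mul_inv_cancel_left _ _).symm⟩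
    show ψ (u⁻¹ * y) ∈ W
    rw [map_mul, map_inv, ← e, inv_mul_cancel_left]
    exact hw
  refine h.image_le_of_product h.map_sylow_le_normalizer_res fun y hy => ?_
  obtain ⟨a, ha, b, hb, e⟩ := mem_sup_of_normal_right.1 (hcov hy)
  exact ⟨a, ha, b, hKL hb, e.symm⟩

/-- Class two, or semisimple. -/
theorem dichotomy :
    (Y = resIn p P ∧ ∃ r : ℕ, r.Prime ∧ r ≠ p ∧ IsPGroup r ↥(Y.map π) ∧
      ⁅⁅Y.map π, Y.map π⁆, Y.map π⁆ = ⊥) ∨
    (p ∣ Nat.card ↥(Y.map π) ∧ Cfsg.layer ↥(Y.map π) = ⊤ ∧ ¬ Group.IsSolvable ↥(Y.map π) ∧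
      ∀ K₁ K₂ : Subgroup (G ⧸ Cfsg.pCore p G), Cfsg.IsComponent K₁ → K₁ ≤ Y.map π →
        Cfsg.IsComponent K₂ → K₂ ≤ Y.map π →
        ∃ s ∈ (S : Subgroup G), K₂ = K₁.map (MulAut.conj (π s)).toMonoidHom) := by
  set Yb := Y.map π with hYb
  set Lb := L.map π with hLb
  have hYn : Y.Normal := h.normal
  have hYbn : Yb.Normal := Subgroup.Normal.map inferInstance π (QuotientGroup.mk'_surjective _)
  have hne : Yb ≠ ⊥ := h.image_ne_bot
  have hObot : Cfsg.pCore p (G ⧸ Cfsg.pCore p G) = ⊥ := Cores.pCore_quotient_self p G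
  by_cases hperf : ⁅Yb, Yb⁆ = Yb
  · have hns : ¬ Group.IsSolvable ↥Yb := fun hs => by
      have : Group.IsPerfect ↥Yb := Subgroup.isPerfect_iff.2 hperf
      refine hne ?_
      rw [← hperf]
      by_contra hcon
      have : Nontrivial ↥Yb := (nontrivial_iff_ne_bot Yb).2 hne
      exact (Group.IsSolvable.commutator_lt_top_of_nontrivial ↥Yb).ne (Group.IsPerfect.commutator_eq_top (G := ↥Yb))
    have hF : Yb ≤ centralizer (Cfsg.fittingSubgroup (G ⧸ Cfsg.pCore p G) : Set _) := by
      rcases h.image_le_or_centralizes (M := Cfsg.fittingSubgroup _) inferInstance with e | e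
      · exact absurd (Coprime.isSolvable_of_le e Components.fitting_isSolvable) hns
      · exact le_centralizer_iff.1 e.2
    obtain ⟨K, hK, hKY⟩ := Components.exists_component_le hYbn.isSubnormal hF fun hn => hns inferInstance
    set Comp := {K : Subgroup (G ⧸ Cfsg.pCore p G) | Cfsg.IsComponent K ∧ K ≤ Yb} with hComp
    have hEY : sSup Comp = Yb := by
      have hEn : (sSup Comp).Normal := by
        refine ⟨fun x hx g => ?_⟩
        have hle : sSup Comp ≤ (sSup Comp).comap (MulAut.conj g).toMonoidHom := sSup_le fun J hJ => by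
          rw [← map_le_iff_le_comap]
          refine le_sSup ⟨Components.IsComponent.conj hJ.1 g, ?_⟩
          rintro _ ⟨y, hy, rfl⟩
          exact hYbn.conj_mem y (hJ.2 hy) g
        exact hle hx
      have hEle : sSup Comp ≤ Yb := sSup_le fun J hJ => hJ.2
      rcases h.image_le_or_centralizes hEn with e | e
      · exact le_antisymm hEle e
      · exact absurd ((le_sSup (show K ∈ Comp from ⟨hK, hKY⟩)).trans (e.2.trans
          (centralizer_le hKY))) (Components.IsComponent.not_le_centralizer hK)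
    have hlayer : Cfsg.layer ↥Yb = ⊤ := hEY ▸ Components.BBalance.layer_sSup_components fun J hJ => hJ.1
    refine Or.inr ⟨?_, hlayer, hns, ?_⟩
    · by_contra hc
      obtain ⟨-, r, hr, -, hrY⟩ := h.coprime_case hc
      have := Fact.mk hr
      exact hns (Coprime.isSolvable_of_isPGroup hrY)
    intro K₁ K₂ hK₁ hK₁Y hK₂ hK₂Y
    by_contra hcon
    set O₁ := {K | ∃ s ∈ (S : Subgroup G), K = K₁.map (MulAut.conj (π s)).toMonoidHom} with hO₁
    set O₂ := Comp \ O₁ with hO₂
    have hO₁c : ∀ J ∈ O₁, J ∈ Comp := by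
      rintro _ ⟨s, hs, rfl⟩
      refine ⟨Components.IsComponent.conj hK₁ _, ?_⟩
      rintro _ ⟨y, hy, rfl⟩
      exact hYbn.conj_mem y (hK₁Y hy) _
    have hsplit : sSup O₁ ⊔ sSup O₂ = Yb := by
      rw [← sSup_union, Set.union_sdiff_cancel hO₁c, hEY]
    have hcomm : sSup O₁ ≤ centralizer ((sSup O₂ : Subgroup _) : Set (G ⧸ Cfsg.pCore p G)) :=
      sSup_le fun J hJ => Components.IsComponent.le_centralizer_sSup (hO₁c J hJ).1 (fun J' hJ' => hJ'.1.1)
        fun hJ2 => hJ2.2 hJ
    have hmap : ∀ s ∈ (S : Subgroup G), ∀ J, J ∈ O₁ → J.map (MulAut.conj (π s)).toMonoidHom ∈ O₁ := by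
      rintro s hs _ ⟨t, ht, rfl⟩
      refine ⟨s * t, mul_mem hs ht, ?_⟩
      rw [Subgroup.map_map, map_mul, map_mul]
      rfl
    have hnorm : ∀ O : Set (Subgroup (G ⧸ Cfsg.pCore p G)),
        (∀ s ∈ (S : Subgroup G), ∀ J ∈ O, J.map (MulAut.conj (π s)).toMonoidHom ∈ O) →
        (S : Subgroup G).map π ≤ normalizer ((sSup O : Subgroup _) : Set _) := by
      intro O hO
      rw [le_normalizer_iff]
      rintro _ ⟨s, hs, rfl⟩ x hx
      have hle : sSup O ≤ (sSup O).comap (MulAut.conj (π s)).toMonoidHom := sSup_le fun J hJ => by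
        rw [← map_le_iff_le_comap]; exact le_sSup (hO s hs J hJ)
      exact hle hx
    have hS₁ := hnorm O₁ hmap
    have hS₂ := hnorm O₂ fun s hs J hJ => by
      refine ⟨⟨Components.IsComponent.conj hJ.1.1 _, ?_⟩, fun h1 => hJ.2 ?_⟩
      · rintro _ ⟨y, hy, rfl⟩
        exact hYbn.conj_mem y (hJ.1.2 hy) _
      · have := hmap s⁻¹ (inv_mem hs) _ h1
        rwa [Subgroup.map_map, show (MulAut.conj (π s⁻¹)).toMonoidHom.comp (MulAut.conj (π s)).toMonoidHom =
          MonoidHom.id _ from MonoidHom.ext fun z => by simp [MulAut.conj_apply, mul_assoc], Subgroup.map_id] at this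
    have hprod : ∀ y ∈ Yb, ∃ a ∈ sSup O₁, ∃ b ∈ sSup O₂, y = a * b ∧ y = b * a := fun y hy => by
      obtain ⟨a, ha, b, hb, e⟩ := (Coprime.mem_sup_iff
        ((le_centralizer_iff.1 hcomm).trans (centralizer_le_normalizer _))).1 (hsplit.ge hy)
      exact ⟨a, ha, b, hb, e.symm, e.symm.trans (hcomm ha b hb).symm⟩
    rcases h.image_le_or hS₂ with e₂ | e₂
    · rcases h.image_le_or hS₁ with e₁ | e₁
      · refine h.image_not_le ?_
        have hc2 : (resIn p P).map π ≤ Yb ⊓ centralizer (Yb : Set _) := by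
          refine le_inf (map_mono h.res_le) fun x hx y hy => ?_
          obtain ⟨a, ha, b, hb, rfl, -⟩ := hprod y hy
          have hxb : b * x = x * b := hcomm (e₁ hx) b hb
          have hxa : a * x = x * a := (hcomm ha x (e₂ hx)).symm
          rw [mul_assoc, hxb, ← mul_assoc, hxa, mul_assoc]
        rcases h.image_le_or_centralizes (M := Yb ⊓ centralizer (Yb : Set _)) inferInstance with e | e
        · exact absurd (hperf.symm.trans (commutator_eq_bot_iff_le_centralizer.2 (e.trans inf_le_right))) hne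
        · exact hc2.trans e.1
      · have hle : Yb ≤ sSup O₂ := h.image_le_of_product hS₂ fun y hy => by
          obtain ⟨a, ha, b, hb, -, e⟩ := hprod y hy
          exact ⟨b, hb, a, e₁ ha, e⟩
        exact (Components.IsComponent.mem_of_le_sSup hK₁ (fun J hJ => hJ.1.1) (hK₁Y.trans hle)).2
          ⟨1, one_mem _, by
            ext z
            simp⟩
    · have hle : Yb ≤ sSup O₁ := h.image_le_of_product hS₁ fun y hy => by
        obtain ⟨a, ha, b, hb, e, -⟩ := hprod y hy
        exact ⟨a, ha, b, e₂ hb, e⟩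
      exact hcon (Components.IsComponent.mem_of_le_sSup hK₂ (fun J hJ => (hO₁c J hJ).1) (hK₂Y.trans hle))
  have hcl : ⁅⁅Yb, Yb⁆, Yb⁆ = ⊥ := by
    rw [commutator_eq_bot_iff_le_centralizer]
    rcases h.image_le_or_centralizes (M := ⁅Yb, Yb⁆) inferInstance with e | e
    · exact absurd (le_antisymm (commutator_le_left _ _) e) hperf
    · exact e.2
  have hnil : Group.IsNilpotent ↥Yb := (isNilpotent_iff_lowerCentralSeries Yb).2 ⟨2, by
    rw [Subgroup.lowerCentralSeries_succ, Subgroup.lowerCentralSeries_succ, Subgroup.lowerCentralSeries_zero]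
    exact hcl⟩
  have hc : ¬ p ∣ Nat.card ↥Yb := by
    intro hd
    obtain ⟨T⟩ := (inferInstance : Nonempty (Sylow p ↥Yb))
    have hT : ((T : Subgroup ↥Yb).map Yb.subtype).IsSubnormal :=
      (Subgroup.Normal.isSubnormal (inferInstance : (T : Subgroup ↥Yb).Normal)).trans' hYbn.isSubnormal
    have hbot : (T : Subgroup ↥Yb) = ⊥ := by
      have := PReduced.le_pCore_of_isSubnormal hT (T.2.map _)
      rw [hObot, le_bot_iff, Subgroup.map_eq_bot_iff, ker_subtype, le_bot_iff] at this
      exact this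
    exact T.ne_bot_of_dvd_card hd hbot
  obtain ⟨hYP, r, hr, hrp, hrY⟩ := h.coprime_case hc
  exact Or.inl ⟨hYP, r, hr, hrp, hrY, hcl⟩

end Setting

end Cfsg.Agent.IsolatedPMinimal
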