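import Cfsg.Agent.Lib.IsolatedPMinimal.Structure

/-!
`Y ⧸ O_p(Y)` and the image of `Y` modulo `O_p(G)`, for a normal subgroup `Y`: `exists_equiv`, `conclusion`.
-/

set_option autoImplicit false

namespace Cfsg.Agent.IsolatedPMinimal

open Subgroup

variable {G : Type*} [Group G] [Finite G] {p : ℕ} [Fact p.Prime] [(Cfsg.pCore p G).Normal]

theorem exists_equiv (Y : Subgroup G) (hY : Y.Normal) [(Cfsg.pCore p ↥Y).Normal] :
    ∃ φ : ↥Y ⧸ Cfsg.pCore p ↥Y ≃* ↥(Y.map (QuotientGroup.mk' (Cfsg.pCore p G))),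
      ∀ y : ↥Y, ((φ (y : ↥Y ⧸ Cfsg.pCore p ↥Y) : ↥(Y.map (QuotientGroup.mk' (Cfsg.pCore p G)))) :
        G ⧸ Cfsg.pCore p G) = QuotientGroup.mk' (Cfsg.pCore p G) y := by
  let f := (QuotientGroup.mk' (Cfsg.pCore p G)).subgroupMap Y
  have hf : Function.Surjective f := MonoidHom.subgroupMap_surjective _ _
  have hker : Cfsg.pCore p ↥Y = f.ker := by
    refine le_antisymm (fun y hy => ?_) ?_
    · refine MonoidHom.mem_ker.2 (Subtype.ext ((QuotientGroup.eq_one_iff _).2 ?_))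
      exact PReduced.pCore_map_subtype_le hY.isSubnormal ⟨y, hy, rfl⟩
    · refine le_trans ?_ (PReduced.le_pCore (N := (Cfsg.pCore p G).subgroupOf Y) inferInstance
        (PReduced.isPGroup_pCore p).comap_subtype)
      intro y hy
      exact (QuotientGroup.eq_one_iff (y : G)).1 (show ((y : G) : G ⧸ Cfsg.pCore p G) = 1 from congrArg Subtype.val (MonoidHom.mem_ker.1 hy))
  exact ⟨(QuotientGroup.quotientMulEquivOfEq hker).trans (QuotientGroup.quotientKerEquivOfSurjective f hf),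
    fun y => rfl⟩

variable {S : Sylow p G} {P L Y : Subgroup G}

/-- The dichotomy for `Y ⧸ O_p(Y)`. -/
theorem conclusion (h : Setting p S P L Y) :
    (resIn p P = Y ∧ ∃ _ : (Cfsg.pCore p ↥Y).Normal, ∃ t : ℕ, t.Prime ∧ t ≠ p ∧
      IsPGroup t (↥Y ⧸ Cfsg.pCore p ↥Y) ∧ ∃ _ : Group.IsNilpotent (↥Y ⧸ Cfsg.pCore p ↥Y),
        Group.nilpotencyClass (↥Y ⧸ Cfsg.pCore p ↥Y) ≤ 2) ∨
    (¬ Group.IsSolvable ↥Y ∧ ∃ _ : (Cfsg.pCore p ↥Y).Normal,
       p ∣ Nat.card (↥Y ⧸ Cfsg.pCore p ↥Y) ∧ Cfsg.layer (↥Y ⧸ Cfsg.pCore p ↥Y) = ⊤ ∧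
       ∀ K₁ K₂ : Subgroup (↥Y ⧸ Cfsg.pCore p ↥Y), Cfsg.IsComponent K₁ → Cfsg.IsComponent K₂ →
         ∃ s ∈ (S : Subgroup G), ((K₂.comap (QuotientGroup.mk' (Cfsg.pCore p ↥Y))).map Y.subtype) =
           (((K₁.comap (QuotientGroup.mk' (Cfsg.pCore p ↥Y))).map Y.subtype)).map (MulAut.conj s).toMonoidHom) := by
  have hY := h.normal
  have hn : (Cfsg.pCore p ↥Y).Normal := PReduced.pCore_normal p ↥Y
  set Yb := Y.map (QuotientGroup.mk' (Cfsg.pCore p G)) with hYb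
  obtain ⟨φ, hφ⟩ := exists_equiv (p := p) Y hY
  rcases h.dichotomy with ⟨hYP, r, hr, hrp, hrY, hcl⟩ | ⟨hd, hlay, hns, htr⟩
  · refine Or.inl ⟨hYP.symm, hn, r, hr, hrp, hrY.of_equiv φ.symm, ?_⟩
    have := Fact.mk hr
    have hnil : Group.IsNilpotent (↥Y ⧸ Cfsg.pCore p ↥Y) := (hrY.of_equiv φ.symm).isNilpotent
    refine ⟨hnil, _root_.lowerCentralSeries_eq_bot_iff_nilpotencyClass_le.1 ?_⟩
    rw [Subgroup.lowerCentralSeries_succ, Subgroup.lowerCentralSeries_succ, Subgroup.lowerCentralSeries_zero]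
    apply Subgroup.map_injective (f := (Y.map (QuotientGroup.mk' (Cfsg.pCore p G))).subtype.comp φ.toMonoidHom)
      (fun a b e => φ.injective (Subtype.ext e))
    rw [map_commutator, map_commutator, Subgroup.map_bot, ← Subgroup.map_map, Subgroup.map_top_of_surjective φ.toMonoidHom φ.surjective,
      ← MonoidHom.range_eq_map, range_subtype]
    exact hcl
  refine Or.inr ⟨fun hs => hns ?_, hn, ?_, ?_, fun K₁ K₂ hK₁ hK₂ => ?_⟩
  · exact Group.isSolvable_of_surjective (f := φ.toMonoidHom.comp (QuotientGroup.mk' (Cfsg.pCore p ↥Y)))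
      (φ.surjective.comp (QuotientGroup.mk'_surjective _))
  · rwa [Nat.card_congr φ.toEquiv]
  · apply Subgroup.map_injective (f := φ.toMonoidHom) φ.injective
    rw [Components.layer_map_equiv, hlay, Subgroup.map_top_of_surjective φ.toMonoidHom φ.surjective]
  have hsub : Yb.IsSubnormal := (Subgroup.Normal.map hY _ (QuotientGroup.mk'_surjective _)).isSubnormal
  have hc : ∀ K, Cfsg.IsComponent K → Cfsg.IsComponent ((K.map φ.toMonoidHom).map Yb.subtype) := fun K hK =>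
    (Components.isComponent_map_subtype_iff hsub _).2 (Components.IsComponent.map_equiv φ hK)
  obtain ⟨s, hs, e⟩ := htr _ _ (hc K₁ hK₁) (map_subtype_le _) (hc K₂ hK₂) (map_subtype_le _)
  refine ⟨s, hs, ?_⟩
  have key : ∀ (K : Subgroup (↥Y ⧸ Cfsg.pCore p ↥Y)) (y : G),
      y ∈ (K.comap (QuotientGroup.mk' (Cfsg.pCore p ↥Y))).map Y.subtype ↔
        y ∈ Y ∧ QuotientGroup.mk' (Cfsg.pCore p G) y ∈ (K.map φ.toMonoidHom).map Yb.subtype := by
    intro K y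
    constructor
    · rintro ⟨z, hz, rfl⟩
      exact ⟨z.2, φ (z : ↥Y ⧸ Cfsg.pCore p ↥Y), ⟨_, hz, rfl⟩, hφ z⟩
    · rintro ⟨hy, _, ⟨k, hk, rfl⟩, hky⟩
      refine ⟨⟨y, hy⟩, ?_, rfl⟩
      show ((⟨y, hy⟩ : ↥Y) : ↥Y ⧸ Cfsg.pCore p ↥Y) ∈ K
      have : ((⟨y, hy⟩ : ↥Y) : ↥Y ⧸ Cfsg.pCore p ↥Y) = k :=
        φ.injective (Subtype.ext ((hφ ⟨y, hy⟩).trans hky.symm))
      rwa [this]
  ext y
  rw [key, e, Subgroup.mem_map_equiv, Subgroup.mem_map_equiv, key, MulAut.conj_symm_apply, MulAut.conj_symm_apply,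
    map_mul, map_mul, map_inv]
  refine and_congr_left fun _ => ⟨fun hy => ?_, fun hy => ?_⟩
  · simpa using hY.conj_mem y hy s⁻¹
  · simpa [mul_assoc] using hY.conj_mem _ hy s

end Cfsg.Agent.IsolatedPMinimal
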